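import Groth.Agent.Ega4B.CMGlobal
import Groth.Agent.Ega4B.SkLocal
import Groth.Agent.Ega4C.SkFlat
import Groth.Agent.Ega4C.SkField
import Groth.Agent.Ega4A.SkFlat
import Groth.Agent.S0598
import Groth.Agent.S0599

/-!
# Serre's condition `(S_k)`: localization, ascent, descent; formal fibres

* `good_sk`: `(S_k)` is a good property for the formal fibre machinery of `Ega4A.PFibre`.
* `hasSnFormalFibres_of_essFiniteType`: `(S_k)` formal fibres pass to Noetherian local rings essentially
  of finite type.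
-/

set_option autoImplicit false

universe u

open TensorProduct IsLocalRing

namespace K112.GoodSk

open LocCoh Groth.Agent Groth.Agent.Ega4C

theorem hasSk_of_isLocalization (k : ℕ) (R S : Type u) [CommRing R] [CommRing S]
    [Algebra R S] (M : Submonoid R) [IsLocalization M S] (h : HasSk k R R) : HasSk k S S := by
  have : IsLocalizedModule M (Algebra.linearMap R S) := inferInstance
  exact Ega4B.SkLocal.hasSk_of_isLocalizedModule k M (Algebra.linearMap R S) h

theorem minLe_of_isRegularRing_fiber (k : ℕ) {R S : Type u} [CommRing R] [CommRing S]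
    [Algebra R S] [IsNoetherianRing S]
    (h : ∀ (p : Ideal R) [p.IsPrime], IsCohenMacaulayRing (p.Fiber S))
    (r : Ideal S) [r.IsPrime] [IsLocalRing (EGA4.FibLocRing R S r)] :
    SkFlat.MinLe k (EGA4.FibLocRing R S r) :=
  SkField.minLe_of_isCM k (CMFibres.isCM_fibers_iff.mp h r)

/-- ascent of `(S_k)` along flat maps with Cohen-Macaulay fibres. -/
theorem hasSk_of_flat_of_CM_fibres (k : ℕ) (R S : Type u) [CommRing R] [CommRing S]
    [Algebra R S] [IsNoetherianRing R] [IsNoetherianRing S] [Module.Flat R S]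
    (hR : HasSk k R R) (h : ∀ (p : Ideal R) [p.IsPrime], IsCohenMacaulayRing (p.Fiber S)) :
    HasSk k S S :=
  SkFlat.hasSk_of_flat (B := R) (C := S) k hR fun r _ _ => minLe_of_isRegularRing_fiber k h r

/-- ascent of `(S_k)` along flat maps with `(S_k)` fibres. -/
theorem hasSk_of_flat_of_Sk_fibres (k : ℕ) (R S : Type u) [CommRing R] [CommRing S]
    [Algebra R S] [IsNoetherianRing R] [IsNoetherianRing S] [Module.Flat R S]
    (hR : HasSk k R R) (h : ∀ (p : Ideal R) [p.IsPrime], HasSk k (p.Fiber S) (p.Fiber S)) :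
    HasSk k S S :=
  SkFlat.hasSk_of_flat (B := R) (C := S) k hR fun r _ _ =>
    (SkFlat.fiber_hasSk_iff k (r.comap (algebraMap R S))).mp (h _) r rfl

/-- descent of `(S_k)` along faithfully flat maps. -/
theorem hasSk_of_faithfullyFlat (k : ℕ) (R S : Type u) [CommRing R] [CommRing S]
    [Algebra R S] [IsNoetherianRing R] [IsNoetherianRing S] [Module.FaithfullyFlat R S]
    (hS : HasSk k S S) : HasSk k R R := by
  rw [Ega4B.SkLocal.hasSk_iff_forall_hasSkAt]
  intro p hp
  obtain ⟨Q, hQ, hQp⟩ := Ideal.exists_isPrime_liesOver_of_faithfullyFlat (B := S) p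
  have h2 : p = Q.comap (algebraMap R S) := hQp.over
  have hsupp : (⟨Q, hQ⟩ : PrimeSpectrum S) ∈ Module.support S S := by
    have : Nontrivial (LocalizedModule Q.primeCompl S) :=
      (SkFlat.locSelf (R := S) Q.primeCompl).toEquiv.nontrivial
    exact this
  have h1 : HasSk k S (S ⊗[R] R) :=
    Ega4B.SkLocal.hasSk_of_semilinearEquiv k (RingHom.id S) Function.bijective_id
      (TensorProduct.AlgebraTensorModule.rid R S S).symm.toAddEquiv
      (fun r m => (TensorProduct.AlgebraTensorModule.rid R S S).symm.map_smul r m) hS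
  have h3 := Ega4A.SkFlat.hasSkAt_base (k := k) (A := R) (B := S) (E := R) (F := S) ⟨Q, hQ⟩ hsupp
    (Ega4B.SkLocal.hasSkAt_of_hasSk k h1 Q)
  subst h2
  exact h3

theorem good_sk (k : ℕ) : Ega4A.PFibre.Good.{u} (fun R _ => HasSk k R R) where
  equiv := fun _ _ _ _ e h => Ega4B.SkLocal.hasSk_of_ringEquiv k e h
  loc := fun R S _ _ _ M _ _ h => hasSk_of_isLocalization k R S M h
  asc := fun R S _ _ _ _ _ hRS hR => by
    have := hRS.1
    refine hasSk_of_flat_of_CM_fibres k R S hR fun p _ => ?_
    have h2 : IsRegularRing (p.Fiber S) :=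
      LocusFibre.isRegularRing_of_isGeometricallyRegular _ _ (hRS.2 p).2
    exact Ega4A.CMFields.isCohenMacaulayRing_of_isRegularRing _
  desc := fun R S _ _ _ _ _ _ h => hasSk_of_faithfullyFlat k R S h

open Groth.Agent.Ega4A.PFibre in
theorem fibP_of_hasSn (k : ℕ) (A A' : Type u) [CommRing A] [CommRing A'] [Algebra A A']
    [IsNoetherianRing A'] (hA : ∀ (p : Ideal A) [p.IsPrime], HasSk k (p.Fiber A') (p.Fiber A')) :
    FibP.{u} (fun R _ => HasSk k R R) A A' := by
  intro K _ _ hK
  let p : Ideal A := RingHom.ker (algebraMap A K)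
  have hp : p.IsPrime := RingHom.ker_isPrime _
  let f : p.ResidueField →ₐ[A] K := Ideal.ResidueField.liftₐ p (Algebra.ofId A K) le_rfl (by
    intro x hx
    have hx' : algebraMap A K x ≠ 0 := fun h0 ↦ hx h0
    exact (isUnit_iff_ne_zero.mpr hx'))
  let _ : Algebra p.ResidueField K := f.toRingHom.toAlgebra
  have : IsScalarTower A p.ResidueField K := .of_algebraMap_eq fun x => (f.commutes x).symm
  have hK' : Algebra.EssFiniteType p.ResidueField K := Algebra.EssFiniteType.of_comp A p.ResidueField K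
  have hN : IsNoetherianRing (p.Fiber A') := FibreTower.isNoetherianRing_fiber p
  have hN' : IsNoetherianRing ((p.Fiber A') ⊗[p.ResidueField] K) :=
    Groth.Agent.CalgB.RegHom6.isNoetherianRing_of_essFiniteType (p.Fiber A')
      ((p.Fiber A') ⊗[p.ResidueField] K)
  have h1 : HasSk k ((p.Fiber A') ⊗[p.ResidueField] K) ((p.Fiber A') ⊗[p.ResidueField] K) :=
    SkField.hasSk_tensor_field p.ResidueField (p.Fiber A') K (Or.inr hK') k (hA p)
  have h2 : HasSk k (K ⊗[p.ResidueField] (p.Fiber A')) (K ⊗[p.ResidueField] (p.Fiber A')) :=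
    Ega4B.SkLocal.hasSk_of_ringEquiv k
      (Algebra.TensorProduct.comm p.ResidueField (p.Fiber A') K).toRingEquiv h1
  exact Ega4B.SkLocal.hasSk_of_ringEquiv k
    (Algebra.TensorProduct.cancelBaseChange A p.ResidueField K K A').toRingEquiv h2

open Groth.Agent.Ega4A.PFibre in
theorem hasSn_of_fibP (k : ℕ) (A A' : Type u) [CommRing A] [CommRing A'] [Algebra A A']
    (h : FibP.{u} (fun R _ => HasSk k R R) A A') (p : Ideal A) [p.IsPrime] :
    HasSk k (p.Fiber A') (p.Fiber A') :=
  h p.ResidueField inferInstance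

/-- `(S_k)` formal fibres pass to algebras essentially of finite type. -/
theorem hasSnFormalFibres_of_essFiniteType (k : ℕ) (A : Type u) [CommRing A] [IsNoetherianRing A]
    [IsLocalRing A] (hA : EGA4.HasSnFormalFibres k A) (B : Type u) [CommRing B]
    [IsNoetherianRing B] [IsLocalRing B] [Algebra A B] [Algebra.EssFiniteType A B] :
    EGA4.HasSnFormalFibres k B := by
  have hN := Ega4A.CplQuot.isNoetherianRing_cpl A
  have h1 : Ega4A.PFibre.FibP.{u} (fun R _ => HasSk k R R) A (EGA4.Cpl A) :=
    fibP_of_hasSn k A (EGA4.Cpl A) hA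
  have h2 := Ega4A.PFibre.FibP.cpl_of_essFiniteType (good_sk k) (A := A) (B := B) (by
    intro C _ _ hC
    have h2 : CAlg.IsGRing (EGA4.Cpl A) := Groth.Agent.S0598.result (EGA4.Cpl A)
    exact Groth.Agent.S0599.result (EGA4.Cpl A) h2 C) h1
  intro p _
  exact hasSn_of_fibP k B (EGA4.Cpl B) h2 p

end K112.GoodSk
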