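import Mathlib.RingTheory.AdicCompletion.Completeness
import Mathlib.RingTheory.AdicCompletion.LocalRing
import Mathlib.RingTheory.AdicCompletion.Noetherian
import Mathlib.RingTheory.Flat.Basic
import Mathlib.RingTheory.Filtration
import Mathlib.RingTheory.TensorProduct.Finite
import Mathlib.RingTheory.TensorProduct.Quotient
import Groth.Agent.CalgB.AdicFSLift
import Groth.Agent.Ega4A.CompleteNoeth

/-!
# Quotients of adic completions, and a flatness criterion

* `flat_of_forall_quotient_pow`: `R → C` with `R`, `C` Noetherian, `J` an ideal of `C` in the Jacobson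
  radical, all `C/J^n` flat over `R`; then `C` is flat over `R`.
* `quotientEquiv`: for a finitely generated ideal `I` of a ring `T` with `T/I` Noetherian and an ideal
  `J` such that `T/J` is `I`-adically complete, `T/J = T^/JT^` (`T^` the completion at `I`).
-/

set_option autoImplicit false

open scoped TensorProduct

namespace K112.AdicQuotFlat

section Flat

variable {R C : Type*} [CommRing R] [CommRing C] [Algebra R C]

/-- the kernel of `C ⊗ N → C/K ⊗ N` is `K (C ⊗ N)` -/
theorem mem_smul_of_rTensor_eq_zero (K : Ideal C) (N : Type*) [AddCommGroup N] [Module R N]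
    (x : C ⊗[R] N)
    (hx : ((Ideal.Quotient.mkₐ R K).toLinearMap).rTensor N x = 0) :
    x ∈ (K • ⊤ : Submodule C (C ⊗[R] N)) := by
  have hex : Function.Exact ((K.subtype).restrictScalars R) (Ideal.Quotient.mkₐ R K).toLinearMap := by
    intro y
    simp only [AlgHom.toLinearMap_apply, Ideal.Quotient.mkₐ_eq_mk, Ideal.Quotient.eq_zero_iff_mem,
      Set.mem_range, LinearMap.coe_restrictScalars, Submodule.coe_subtype]
    exact ⟨fun h => ⟨⟨y, h⟩, rfl⟩, fun ⟨z, hz⟩ => hz ▸ z.2⟩
  have h1 := rTensor_exact N hex (Ideal.Quotient.mkₐ_surjective R K)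
  obtain ⟨y, rfl⟩ := (h1 x).1 hx
  induction y with
  | zero => simp
  | tmul a b =>
    rw [LinearMap.rTensor_tmul]
    have : ((K.subtype).restrictScalars R a) ⊗ₜ[R] b = (a : C) • ((1 : C) ⊗ₜ[R] b) := by
      rw [TensorProduct.smul_tmul', smul_eq_mul, mul_one]
      rfl
    rw [this]
    exact Submodule.smul_mem_smul a.2 trivial
  | add a b ha hb =>
    rw [map_add]
    refine add_mem (ha ?_) (hb ?_)
    · exact (h1 _).2 ⟨a, rfl⟩
    · exact (h1 _).2 ⟨b, rfl⟩

/-- Flatness from flatness of all the `C/J^n` over the base. -/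
theorem flat_of_forall_quotient_pow [IsNoetherianRing R] [IsNoetherianRing C] (J : Ideal C)
    (hJ : J ≤ (⊥ : Ideal C).jacobson) (h : ∀ n : ℕ, Module.Flat R (C ⧸ J ^ n)) :
    Module.Flat R C := by
  rw [Module.Flat.iff_lTensor_injective']
  intro I
  rw [injective_iff_map_eq_zero]
  intro x hx
  have h1 : x ∈ (⨅ n : ℕ, J ^ n • ⊤ : Submodule C (C ⊗[R] I)) := by
    rw [Submodule.mem_iInf]
    intro n
    refine mem_smul_of_rTensor_eq_zero (J ^ n) I x ?_
    have h2 := Module.Flat.lTensor_preserves_injective_linearMap (M := C ⧸ J ^ n) I.subtype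
      (Submodule.injective_subtype I)
    apply h2
    rw [map_zero]
    have h3 := LinearMap.lTensor_comp_rTensor (R := R) (f := (Ideal.Quotient.mkₐ R (J ^ n)).toLinearMap)
      (g := I.subtype)
    have h4 := LinearMap.rTensor_comp_lTensor (R := R) (f := (Ideal.Quotient.mkₐ R (J ^ n)).toLinearMap)
      (g := I.subtype)
    have h5 := congrArg (fun f => f x) (h3.trans h4.symm)
    simp only [LinearMap.comp_apply] at h5
    rw [h5, hx, map_zero]
  have h6 := Ideal.iInf_pow_smul_eq_bot_of_le_jacobson (M := C ⊗[R] I) J hJ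
  rw [h6] at h1
  exact h1

end Flat

section Quot

variable {T : Type*} [CommRing T] (I : Ideal T)

theorem mem_map_pow_iff (hI : I.FG) (n : ℕ) (y : AdicCompletion I T) :
    y ∈ (I.map (algebraMap T (AdicCompletion I T))) ^ n ↔ AdicCompletion.evalₐ I n y = 0 := by
  have eq : I ^ n * ⊤ = I ^ n := by simp
  have hinj : Function.Injective (Ideal.Quotient.factor ((le_of_eq eq))) := by
    simpa [RingHom.injective_iff_ker_eq_bot, Ideal.Quotient.factor_ker]
      using Ideal.map_mk_eq_bot_of_le (le_of_eq eq.symm)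
  have h1 : AdicCompletion.evalₐ I n y = 0 ↔ y ∈ (AdicCompletion.eval I T n).ker := by
    rw [LinearMap.mem_ker, ← AdicCompletion.factor_eval_eq_evalₐ (h := le_of_eq eq)]
    exact map_eq_zero_iff _ hinj
  rw [h1, ← AdicCompletion.pow_smul_top_eq_ker_eval hI, Ideal.smul_top_eq_map,
    Submodule.restrictScalars_mem, Ideal.map_pow]

theorem exists_sub_mem (hI : I.FG) (n : ℕ) (y : AdicCompletion I T) :
    ∃ x : T, y - algebraMap T (AdicCompletion I T) x ∈
      (I.map (algebraMap T (AdicCompletion I T))) ^ n := by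
  obtain ⟨x, hx⟩ := Ideal.Quotient.mk_surjective (AdicCompletion.evalₐ I n y)
  refine ⟨x, ?_⟩
  rw [mem_map_pow_iff I hI, map_sub, ← hx, sub_eq_zero]
  exact (AlgHom.commutes _ _).symm

theorem mem_sup_of_algebraMap_mem (hI : I.FG) (J : Ideal T) (n : ℕ) (t : T)
    (ht : algebraMap T (AdicCompletion I T) t ∈ J.map (algebraMap T (AdicCompletion I T)) ⊔
      (I.map (algebraMap T (AdicCompletion I T))) ^ n) : t ∈ J ⊔ I ^ n := by
  have h1 : (J.map (algebraMap T (AdicCompletion I T)) ⊔
      (I.map (algebraMap T (AdicCompletion I T))) ^ n).map (AdicCompletion.evalₐ I n).toRingHom ≤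
      J.map (Ideal.Quotient.mk (I ^ n)) := by
    rw [Ideal.map_sup, sup_le_iff]
    constructor
    · rw [Ideal.map_map]
      refine le_of_eq ?_
      congr 1
    · rw [Ideal.map_le_iff_le_comap]
      intro y hy
      rw [mem_map_pow_iff I hI] at hy
      rw [Ideal.mem_comap]
      exact (congrArg (· ∈ J.map (Ideal.Quotient.mk (I ^ n))) hy).mpr (zero_mem _)
  have h2 : (AdicCompletion.evalₐ I n).toRingHom (algebraMap T (AdicCompletion I T) t) =
      Ideal.Quotient.mk (I ^ n) t := (AdicCompletion.evalₐ I n).commutes t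
  have h3 := h1 (Ideal.mem_map_of_mem _ ht)
  rw [h2] at h3
  rw [← Ideal.mem_comap, Ideal.comap_map_of_surjective _ Ideal.Quotient.mk_surjective,
    ← RingHom.ker_eq_comap_bot, Ideal.mk_ker] at h3
  exact h3

variable (R : Type*) [CommRing R] [Algebra T R]

theorem algebraMap_mem_pow (n : ℕ) (t : T) (ht : t ∈ RingHom.ker (algebraMap T R) ⊔ I ^ n) :
    algebraMap T R t ∈ (I.map (algebraMap T R)) ^ n := by
  obtain ⟨a, ha, b, hb, rfl⟩ := Submodule.mem_sup.1 ht
  rw [map_add, RingHom.mem_ker.1 ha, zero_add, ← Ideal.map_pow]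
  exact Ideal.mem_map_of_mem _ hb

/-- For a surjection `T → R` with kernel `J`, `R` complete for the `I`-adic topology: `J` is the
contraction of `JC`, `C` the completion of `T`. -/
theorem comap_map_ker (hI : I.FG) [IsHausdorff (I.map (algebraMap T R)) R] :
    ((RingHom.ker (algebraMap T R)).map (algebraMap T (AdicCompletion I T))).comap
      (algebraMap T (AdicCompletion I T)) = RingHom.ker (algebraMap T R) := by
  refine le_antisymm (fun t ht => ?_) Ideal.le_comap_map
  rw [RingHom.mem_ker]
  refine IsHausdorff.haus' (I := I.map (algebraMap T R)) _ fun n => ?_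
  rw [SModEq.zero, smul_eq_mul, Ideal.mul_top]
  exact algebraMap_mem_pow I R n t (mem_sup_of_algebraMap_mem I hI _ n t (Ideal.mem_sup_left ht))

theorem exists_sub_mem_map_ker (hI : I.FG) [IsNoetherianRing (T ⧸ I)]
    (hs : Function.Surjective (algebraMap T R))
    [IsPrecomplete (I.map (algebraMap T R)) R] (y : AdicCompletion I T) :
    ∃ t : T, y - algebraMap T (AdicCompletion I T) t ∈
      (RingHom.ker (algebraMap T R)).map (algebraMap T (AdicCompletion I T)) := by
  have hN : IsNoetherianRing (AdicCompletion I T) :=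
    Groth.Agent.Ega4A.CompleteNoeth.isNoetherianRing_adicCompletion_of_fg I hI
  have hC : IsAdicComplete (I.map (algebraMap T (AdicCompletion I T))) (AdicCompletion I T) :=
    AdicCompletion.isAdicComplete_self I hI
  choose x hx using fun n => exists_sub_mem I hI n y
  have hxx : ∀ {m n : ℕ}, m ≤ n → x m - x n ∈ I ^ m := by
    intro m n hmn
    have h1 : algebraMap T (AdicCompletion I T) (x m - x n) ∈
        (I.map (algebraMap T (AdicCompletion I T))) ^ m := by
      have h2 := Ideal.pow_le_pow_right hmn (hx n)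
      have h3 := sub_mem h2 (hx m)
      rw [map_sub]
      convert h3 using 1
      ring
    have h4 := mem_sup_of_algebraMap_mem I hI ⊥ m (x m - x n) (Ideal.mem_sup_right h1)
    simpa using h4
  obtain ⟨L, hL⟩ := IsPrecomplete.prec' (I := I.map (algebraMap T R)) (M := R)
    (fun n => algebraMap T R (x n)) (by
      intro m n hmn
      rw [SModEq.sub_mem, smul_eq_mul, Ideal.mul_top, ← map_sub, ← Ideal.map_pow]
      exact Ideal.mem_map_of_mem _ (hxx hmn))
  obtain ⟨t, rfl⟩ := hs L
  refine ⟨t, ?_⟩
  refine Groth.Agent.CalgB.AdicFSLift.closed_of_isNoetherianRing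
    (I.map (algebraMap T (AdicCompletion I T))) _ _ fun n => ?_
  have h5 := hL n
  rw [SModEq.sub_mem, smul_eq_mul, Ideal.mul_top, ← map_sub, ← Ideal.map_pow,
    Ideal.mem_map_iff_of_surjective _ hs] at h5
  obtain ⟨i, hi, hi'⟩ := h5
  have h6 : x n - t - i ∈ RingHom.ker (algebraMap T R) := by
    rw [RingHom.mem_ker, map_sub (algebraMap T R) (x n - t) i, hi', sub_self]
  have h7 : y - algebraMap T (AdicCompletion I T) t =
      algebraMap T (AdicCompletion I T) (x n - t - i) +
        ((y - algebraMap T (AdicCompletion I T) (x n)) + algebraMap T (AdicCompletion I T) i) := by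
    simp only [map_sub]
    ring
  rw [h7]
  refine add_mem (Ideal.mem_sup_left (Ideal.mem_map_of_mem _ h6)) (Ideal.mem_sup_right
    (add_mem (hx n) ?_))
  rw [← Ideal.map_pow]
  exact Ideal.mem_map_of_mem _ hi

/-- **Quotients of a completion**: if `T → R` is surjective with kernel `J` and `R` is `I`-adically
complete then `R = C/JC`, `C` the completion of `T` at `I`. -/
theorem nonempty_quotientEquiv (hI : I.FG) [IsNoetherianRing (T ⧸ I)]
    (hs : Function.Surjective (algebraMap T R)) [IsAdicComplete (I.map (algebraMap T R)) R]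
    (J : Ideal T) (hJ : RingHom.ker (algebraMap T R) = J) :
    Nonempty (R ≃ₐ[T] (AdicCompletion I T ⧸ J.map (algebraMap T (AdicCompletion I T)))) := by
  subst hJ
  set K := (RingHom.ker (algebraMap T R)).map (algebraMap T (AdicCompletion I T)) with hK
  let f : (T ⧸ RingHom.ker (algebraMap T R)) →ₐ[T] (AdicCompletion I T ⧸ K) :=
    Ideal.Quotient.liftₐ _ (Algebra.ofId T (AdicCompletion I T ⧸ K)) (by
      intro a ha
      exact Ideal.Quotient.eq_zero_iff_mem.2 (Ideal.mem_map_of_mem _ ha))
  have hf : Function.Bijective f := by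
    constructor
    · rw [injective_iff_map_eq_zero]
      intro a ha
      obtain ⟨a, rfl⟩ := Ideal.Quotient.mk_surjective a
      have h1 : algebraMap T (AdicCompletion I T) a ∈ K := Ideal.Quotient.eq_zero_iff_mem.1 ha
      have h2 := (comap_map_ker I R hI).le (Ideal.mem_comap.2 h1)
      exact Ideal.Quotient.eq_zero_iff_mem.2 h2
    · intro y
      obtain ⟨y, rfl⟩ := Ideal.Quotient.mk_surjective y
      obtain ⟨t, ht⟩ := exists_sub_mem_map_ker I R hI hs y
      refine ⟨Ideal.Quotient.mk _ t, ?_⟩
      exact (Ideal.Quotient.eq.2 ht).symm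
  exact ⟨(Ideal.quotientKerAlgEquivOfSurjective (f := Algebra.ofId T R) hs).symm.trans
    (AlgEquiv.ofBijective f hf)⟩

end Quot

end K112.AdicQuotFlat
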