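import Groth.Prelude.Def_EGA4c
import Groth.Agent.EGA4.K112.AdicQuotFlat
import Groth.Agent.Ega4late.H539.OmegaHat
import Groth.Agent.Ega3B.IdemLift
import Groth.Agent.Ega4C.CplFinite
import Groth.Agent.FlatA.LocalCriterion
import Groth.Agent.RedSub.H668.SemiSec

/-!
# Completed tensor products: Noetherian, flatness, quotients by powers of `m_A`
-/

set_option autoImplicit false
universe u
attribute [local instance] Algebra.TensorProduct.rightAlgebra

open scoped TensorProduct
open IsLocalRing

namespace K112.CTensorFlat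

variable (k A B : Type u) [Field k] [CommRing A] [CommRing B] [Algebra k A] [Algebra k B]
  [IsNoetherianRing A] [IsNoetherianRing B] [IsLocalRing A] [IsLocalRing B]

theorem fg_cTensorIdeal : (EGA4.cTensorIdeal k A B).FG :=
  Submodule.FG.sup ((Ideal.fg_of_isNoetherianRing _).map _) ((Ideal.fg_of_isNoetherianRing _).map _)

/-- `A ⊗ B → A/m^n ⊗ B` -/
noncomputable def toQ (n : ℕ) : A ⊗[k] B →ₐ[k] (A ⧸ maximalIdeal A ^ n) ⊗[k] B :=
  Algebra.TensorProduct.map (Ideal.Quotient.mkₐ k (maximalIdeal A ^ n)) (AlgHom.id k B)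

theorem toQ_surjective (n : ℕ) : Function.Surjective (toQ k A B n) :=
  Algebra.TensorProduct.map_surjective _ _ (Ideal.Quotient.mkₐ_surjective k _)
    Function.surjective_id

theorem ker_toQ (n : ℕ) : RingHom.ker (toQ k A B n).toRingHom =
    (maximalIdeal A ^ n).map (Algebra.TensorProduct.includeLeft : A →ₐ[k] A ⊗[k] B) := by
  have h := Algebra.TensorProduct.rTensor_ker (R := k) (C := B)
    (Ideal.Quotient.mkₐ k (maximalIdeal A ^ n)) (Ideal.Quotient.mkₐ_surjective k _)
  have h2 : RingHom.ker (Ideal.Quotient.mkₐ k (maximalIdeal A ^ n)) = maximalIdeal A ^ n :=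
    Ideal.Quotient.mkₐ_ker k _
  rw [h2] at h
  exact h

theorem finite_Q [Module.Finite k (ResidueField A)] (n : ℕ) :
    Module.Finite B ((A ⧸ maximalIdeal A ^ n) ⊗[k] B) := by
  have h := Groth.Agent.Ega4late.H539.OmegaHat.finite_quotient_pow k A n
  exact Module.Finite.equiv (Algebra.TensorProduct.commRight k B (A ⧸ maximalIdeal A ^ n)).toLinearEquiv

theorem flat_Q (n : ℕ) : Module.Flat B ((A ⧸ maximalIdeal A ^ n) ⊗[k] B) :=
  Module.Flat.of_linearEquiv
    (Algebra.TensorProduct.commRight k B (A ⧸ maximalIdeal A ^ n)).toLinearEquiv.symm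

theorem isAdicComplete_Q [Module.Finite k (ResidueField A)] [IsAdicComplete (maximalIdeal B) B]
    (n : ℕ) : IsAdicComplete ((EGA4.cTensorIdeal k A B).map (toQ k A B n).toRingHom)
      ((A ⧸ maximalIdeal A ^ n) ⊗[k] B) := by
  have hfin := finite_Q k A B n
  have h1 : IsAdicComplete ((maximalIdeal B).map (algebraMap B ((A ⧸ maximalIdeal A ^ n) ⊗[k] B)))
      ((A ⧸ maximalIdeal A ^ n) ⊗[k] B) :=
    Groth.Agent.Ega3B.IdemLift.isAdicComplete_map B _ (maximalIdeal B)
  have hB : ((maximalIdeal B).map (Algebra.TensorProduct.includeRight : B →ₐ[k] A ⊗[k] B)).map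
      (toQ k A B n).toRingHom =
        (maximalIdeal B).map (algebraMap B ((A ⧸ maximalIdeal A ^ n) ⊗[k] B)) := by
    have h2 := Ideal.map_map (I := maximalIdeal B)
      (Algebra.TensorProduct.includeRight : B →ₐ[k] A ⊗[k] B).toRingHom (toQ k A B n).toRingHom
    refine h2.trans ?_
    congr 1
  have hA : (((maximalIdeal A).map (Algebra.TensorProduct.includeLeft : A →ₐ[k] A ⊗[k] B)).map
      (toQ k A B n).toRingHom) ^ n = ⊥ := by
    rw [← Ideal.map_pow]
    have h3 : ((maximalIdeal A).map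
        (Algebra.TensorProduct.includeLeft : A →ₐ[k] A ⊗[k] B)) ^ n =
        (maximalIdeal A ^ n).map (Algebra.TensorProduct.includeLeft : A →ₐ[k] A ⊗[k] B) :=
      (Ideal.map_pow _ _ _).symm
    rw [h3, ← ker_toQ, Ideal.map_eq_bot_iff_le_ker]
  refine Groth.Agent.Ega4C.CplFinite.isAdicComplete_of_pow_le
    (J := (maximalIdeal B).map (algebraMap B ((A ⧸ maximalIdeal A ^ n) ⊗[k] B))) ?_ (n + 1) ?_
  · rw [EGA4.cTensorIdeal, Ideal.map_sup, hB]
    exact le_sup_right
  · rw [EGA4.cTensorIdeal, Ideal.map_sup, hB]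
    refine Ideal.sup_pow_add_le_pow_sup_pow.trans ?_
    rw [hA, pow_one, bot_sup_eq]


theorem isNoetherianRing_quotient [Module.Finite k (ResidueField A)] :
    IsNoetherianRing ((A ⊗[k] B) ⧸ EGA4.cTensorIdeal k A B) := by
  have hfin := finite_Q k A B 1
  have h1 : IsNoetherianRing ((A ⧸ maximalIdeal A ^ 1) ⊗[k] B) :=
    IsNoetherianRing.of_finite B _
  let f : ((A ⊗[k] B) ⧸ RingHom.ker (toQ k A B 1).toRingHom) →+*
      ((A ⊗[k] B) ⧸ EGA4.cTensorIdeal k A B) := Ideal.Quotient.factor (by
        rw [ker_toQ, pow_one]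
        exact le_sup_left)
  have hf : Function.Surjective f := Ideal.Quotient.factor_surjective _
  have e : ((A ⊗[k] B) ⧸ RingHom.ker (toQ k A B 1).toRingHom) ≃+*
    ((A ⧸ maximalIdeal A ^ 1) ⊗[k] B) := RingHom.quotientKerEquivOfSurjective
      (f := (toQ k A B 1).toRingHom) (toQ_surjective k A B 1)
  have h2 : IsNoetherianRing ((A ⊗[k] B) ⧸ RingHom.ker (toQ k A B 1).toRingHom) :=
    isNoetherianRing_of_ringEquiv _ e.symm
  exact isNoetherianRing_of_surjective _ _ f hf

theorem isNoetherianRing_cTensor [Module.Finite k (ResidueField A)] :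
    IsNoetherianRing (EGA4.CTensor k A B) := by
  have := isNoetherianRing_quotient k A B
  exact Groth.Agent.Ega4A.CompleteNoeth.isNoetherianRing_adicCompletion_of_fg _
    (fg_cTensorIdeal k A B)

theorem isAdicComplete_cTensor : IsAdicComplete
    ((EGA4.cTensorIdeal k A B).map (algebraMap (A ⊗[k] B) (EGA4.CTensor k A B)))
    (EGA4.CTensor k A B) :=
  AdicCompletion.isAdicComplete_self _ (fg_cTensorIdeal k A B)

theorem map_maximalIdeal_pow (n : ℕ) :
    ((maximalIdeal A ^ n).map (Algebra.TensorProduct.includeLeft : A →ₐ[k] A ⊗[k] B)).map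
      (algebraMap (A ⊗[k] B) (EGA4.CTensor k A B)) =
    ((maximalIdeal A).map (algebraMap A (EGA4.CTensor k A B))) ^ n := by
  rw [← Ideal.map_pow]
  have h2 := Ideal.map_map (I := maximalIdeal A ^ n)
      (Algebra.TensorProduct.includeLeft : A →ₐ[k] A ⊗[k] B).toRingHom
      (algebraMap (A ⊗[k] B) (EGA4.CTensor k A B))
  refine h2.trans ?_
  congr 1

/-- the quotient of the completed tensor product by `m_A^n` -/
theorem exists_equiv [Module.Finite k (ResidueField A)] [IsAdicComplete (maximalIdeal B) B]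
    (n : ℕ) : ∃ e : ((A ⧸ maximalIdeal A ^ n) ⊗[k] B) ≃+* (EGA4.CTensor k A B ⧸
      ((maximalIdeal A).map (algebraMap A (EGA4.CTensor k A B))) ^ n),
      (∀ t : A ⊗[k] B, e (toQ k A B n t) = algebraMap (A ⊗[k] B) _ t) := by
  have h1 := isNoetherianRing_quotient k A B
  have h2 := isAdicComplete_Q k A B n
  algebraize [(toQ k A B n).toRingHom]
  obtain ⟨e⟩ := AdicQuotFlat.nonempty_quotientEquiv (EGA4.cTensorIdeal k A B)
    ((A ⧸ maximalIdeal A ^ n) ⊗[k] B) (fg_cTensorIdeal k A B) (toQ_surjective k A B n) _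
    (ker_toQ k A B n)
  refine ⟨e.toRingEquiv.trans (Ideal.quotEquivOfEq (map_maximalIdeal_pow k A B n)), fun t => ?_⟩
  have h3 := e.commutes t
  change Ideal.quotEquivOfEq (map_maximalIdeal_pow k A B n) (e (toQ k A B n t)) = _
  have h4 : e (toQ k A B n t) = algebraMap (A ⊗[k] B) _ t := h3
  rw [h4]
  rfl


theorem map_le_jacobson : (maximalIdeal A).map (algebraMap A (EGA4.CTensor k A B)) ≤
    (⊥ : Ideal (EGA4.CTensor k A B)).jacobson := by
  have h := isAdicComplete_cTensor k A B
  have h1 := map_maximalIdeal_pow k A B 1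
  rw [pow_one, pow_one] at h1
  rw [← h1]
  have h2 : (maximalIdeal A).map (Algebra.TensorProduct.includeLeft : A →ₐ[k] A ⊗[k] B) ≤
      EGA4.cTensorIdeal k A B := le_sup_left
  exact (Ideal.map_mono h2).trans (IsAdicComplete.le_jacobson_bot _)

theorem flat_right [Module.Finite k (ResidueField A)] [IsAdicComplete (maximalIdeal B) B] :
    Module.Flat B (EGA4.CTensor k A B) := by
  have hN := isNoetherianRing_cTensor k A B
  refine AdicQuotFlat.flat_of_forall_quotient_pow
    ((maximalIdeal A).map (algebraMap A (EGA4.CTensor k A B))) (map_le_jacobson k A B) fun n => ?_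
  obtain ⟨e, he⟩ := exists_equiv k A B n
  have hfl := flat_Q k A B n
  let g : ((A ⧸ maximalIdeal A ^ n) ⊗[k] B) ≃ₗ[B] (EGA4.CTensor k A B ⧸
      ((maximalIdeal A).map (algebraMap A (EGA4.CTensor k A B))) ^ n) :=
    { e with
      map_smul' := fun b x => by
        change e (b • x) = b • e x
        rw [Algebra.smul_def, Algebra.smul_def, map_mul]
        congr 1
        have h1 : algebraMap B ((A ⧸ maximalIdeal A ^ n) ⊗[k] B) b =
            toQ k A B n (Algebra.TensorProduct.includeRight b) := rfl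
        rw [h1, he]
        rfl }
  exact Module.Flat.of_linearEquiv g.symm

theorem flat_left [Module.Finite k (ResidueField A)] [IsAdicComplete (maximalIdeal B) B] :
    Module.Flat A (EGA4.CTensor k A B) := by
  have hN := isNoetherianRing_cTensor k A B
  refine Groth.Agent.FlatA.LocalCriterion.flat_of_forall_flat_quotient_pow
    (B := EGA4.CTensor k A B) (maximalIdeal A) (map_le_jacobson k A B) fun n _ => ?_
  obtain ⟨e, he⟩ := exists_equiv k A B n
  let g : ((A ⧸ maximalIdeal A ^ n) ⊗[k] B) ≃ₗ[A] (EGA4.CTensor k A B ⧸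
      (maximalIdeal A ^ n).map (algebraMap A (EGA4.CTensor k A B))) :=
    { e.trans (Ideal.quotEquivOfEq (Ideal.map_pow _ _ _).symm) with
      map_smul' := fun b x => by
        change Ideal.quotEquivOfEq (Ideal.map_pow _ _ _).symm (e (b • x)) =
          b • Ideal.quotEquivOfEq (Ideal.map_pow _ _ _).symm (e x)
        have h1 : b • x = toQ k A B n (b ⊗ₜ 1) * x := by
          induction x with
          | zero => rw [smul_zero, mul_zero]
          | tmul u v =>
            rw [TensorProduct.smul_tmul']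
            simp [toQ]
            rfl
          | add u v hu hv => rw [smul_add, mul_add, hu, hv]
        rw [h1, map_mul, he, map_mul, Algebra.smul_def]
        rfl }
  let g2 : ((A ⧸ maximalIdeal A ^ n) ⊗[k] B) ≃ₗ[A ⧸ maximalIdeal A ^ n]
      (EGA4.CTensor k A B ⧸ (maximalIdeal A ^ n).map (algebraMap A (EGA4.CTensor k A B))) :=
    g.extendScalarsOfSurjective Ideal.Quotient.mk_surjective
  let g3 := (Algebra.TensorProduct.quotIdealMapEquivQuotTensor (EGA4.CTensor k A B)
    (maximalIdeal A ^ n)).toLinearEquiv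
  have hfl : Module.Flat (A ⧸ maximalIdeal A ^ n) ((A ⧸ maximalIdeal A ^ n) ⊗[k] B) :=
    inferInstance
  exact Module.Flat.of_linearEquiv (g2.trans g3).symm

end K112.CTensorFlat
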