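import Mathlib.RingTheory.LocalRing.ResidueField.Fiber
import Mathlib.RingTheory.LocalRing.Quotient
import Mathlib.RingTheory.Ideal.KrullsHeightTheorem
import Mathlib.RingTheory.Ideal.GoingDown
import Mathlib.RingTheory.KrullDimension.Basic

/-!
# The closed fibre of an algebra over a local ring

* `fibreEquiv A B : m_A.Fiber B ≃+* B/m_A B`.
* `height_map_of_isPrime`: `A → B` flat, `p B` prime lying over `p`: `ht (p B) = ht p`.
-/

set_option autoImplicit false
universe u

namespace K112.ClosedFibre

open IsLocalRing

/-- The ring isomorphism between the closed fibre and the quotient. -/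
noncomputable def fibreEquiv (A B : Type u) [CommRing A] [CommRing B] [IsLocalRing A] [Algebra A B] :
    (maximalIdeal A).Fiber B ≃+* B ⧸ (maximalIdeal A).map (algebraMap A B) :=
  ((Algebra.TensorProduct.quotIdealMapEquivQuotTensor B (maximalIdeal A)).toRingEquiv.trans
    (Algebra.TensorProduct.congr (AlgEquiv.ofBijective (IsScalarTower.toAlgHom A
      (A ⧸ maximalIdeal A) (maximalIdeal A).ResidueField)
        (Ideal.bijective_algebraMap_quotient_residueField (maximalIdeal A)))
      AlgEquiv.refl).toRingEquiv).symm

theorem height_map_of_isPrime {A B : Type u} [CommRing A] [CommRing B] [IsNoetherianRing A] [IsNoetherianRing B]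
    [Algebra A B] [Module.Flat A B] (p : Ideal A) [p.IsPrime]
    (hp : (p.map (algebraMap A B)).IsPrime) (hc : (p.map (algebraMap A B)).comap (algebraMap A B) = p) :
    (p.map (algebraMap A B)).height = p.height := by
  have : (p.map (algebraMap A B)).LiesOver p := ⟨hc.symm⟩
  rw [Ideal.height_eq_height_add_of_liesOver_of_hasGoingDown p (p.map (algebraMap A B)),
    Ideal.map_quotient_self]
  have : Nontrivial (B ⧸ p.map (algebraMap A B)) := Ideal.Quotient.nontrivial_iff.mpr hp.ne_top
  have : IsDomain (B ⧸ p.map (algebraMap A B)) := Ideal.Quotient.isDomain _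
  rw [Ideal.height_bot, add_zero]

end K112.ClosedFibre
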