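import Groth.Agent.Ega4A.CplQuot
import Groth.Agent.LoccohA.RatliffD
import Groth.Agent.CurvesB.EtaleCompl

/-!
# The base change `B ⊗_A Â` for a local homomorphism `A → B`

* `exists_sub_mem`: `B → (B ⊗ Â)/m_B` is surjective.
* `eq_map_maximalIdeal`: a prime `n'` of `B ⊗ Â` over `m_B` is `m_B (B ⊗ Â)`.
* `nonempty_equiv`: the completions of `B` and of `(B ⊗ Â)_{n'}` are isomorphic.
-/

set_option autoImplicit false
universe u

open TensorProduct IsLocalRing EGA4

namespace K112.CplTensor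

variable (A B : Type u) [CommRing A] [CommRing B] [IsNoetherianRing A]
  [IsLocalRing A] [IsLocalRing B] [Algebra A B] [IsLocalHom (algebraMap A B)]

theorem exists_sub_mem (z : B ⊗[A] Cpl A) :
    ∃ b : B, z - algebraMap B (B ⊗[A] Cpl A) b ∈
      (maximalIdeal B).map (algebraMap B (B ⊗[A] Cpl A)) := by
  have hmap : (maximalIdeal A).map (algebraMap A B) ≤ maximalIdeal B :=
    IsLocalRing.map_maximalIdeal_le _
  induction z with
  | zero => exact ⟨0, by simp⟩
  | tmul b x =>
    obtain ⟨a, ha⟩ := Groth.Agent.LoccohA.RatliffD.cpl_surj A x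
    refine ⟨algebraMap A B a * b, ?_⟩
    have h1 : b ⊗ₜ[A] x - algebraMap B (B ⊗[A] Cpl A) (algebraMap A B a * b) =
        b ⊗ₜ[A] (x - algebraMap A (Cpl A) a) := by
      rw [tmul_sub]
      congr 1
      rw [Algebra.TensorProduct.algebraMap_apply, Algebra.algebraMap_self, RingHom.id_apply,
        Algebra.algebraMap_eq_smul_one (R := A) (A := Cpl A), ← Algebra.smul_def,
        TensorProduct.smul_tmul]
    rw [h1]
    have h2 : x - algebraMap A (Cpl A) a ∈ (maximalIdeal A).map (algebraMap A (Cpl A)) := by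
      have := Groth.Agent.Ega4A.CplQuot.mB_cpl A
      rw [EGA4.mB] at this
      rw [this]
      exact ha
    generalize x - algebraMap A (Cpl A) a = y at h2
    refine Submodule.span_induction (p := fun y _ => b ⊗ₜ[A] y ∈
      (maximalIdeal B).map (algebraMap B (B ⊗[A] Cpl A))) ?_ ?_ ?_ ?_ h2
    · rintro _ ⟨c, hc, rfl⟩
      have h3 : b ⊗ₜ[A] (algebraMap A (Cpl A) c) =
          algebraMap B (B ⊗[A] Cpl A) (algebraMap A B c * b) := by
        rw [Algebra.TensorProduct.algebraMap_apply, Algebra.algebraMap_self, RingHom.id_apply,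
          Algebra.algebraMap_eq_smul_one (R := A) (A := Cpl A), ← Algebra.smul_def,
          TensorProduct.smul_tmul]
      rw [h3]
      exact Ideal.mem_map_of_mem _ (Ideal.mul_mem_right _ _ (hmap (Ideal.mem_map_of_mem _ hc)))
    · rw [tmul_zero]
      exact Ideal.zero_mem _
    · intro y z _ _ hy hz
      rw [tmul_add]
      exact Ideal.add_mem _ hy hz
    · intro c y _ hy
      have h3 : b ⊗ₜ[A] (c • y) = (1 ⊗ₜ[A] c) * (b ⊗ₜ[A] y) := by
        rw [Algebra.TensorProduct.tmul_mul_tmul, one_mul, smul_eq_mul]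
      rw [h3]
      exact Ideal.mul_mem_left _ _ hy
  | add x y hx hy =>
    obtain ⟨b₁, h₁⟩ := hx
    obtain ⟨b₂, h₂⟩ := hy
    refine ⟨b₁ + b₂, ?_⟩
    rw [map_add, add_sub_add_comm]
    exact Ideal.add_mem _ h₁ h₂

theorem eq_map_maximalIdeal (n' : Ideal (B ⊗[A] Cpl A)) 
    (h1 : n'.comap (algebraMap B (B ⊗[A] Cpl A)) = maximalIdeal B) :
    n' = (maximalIdeal B).map (algebraMap B (B ⊗[A] Cpl A)) := by
  have hle : (maximalIdeal B).map (algebraMap B (B ⊗[A] Cpl A)) ≤ n' :=
    Ideal.map_le_iff_le_comap.mpr h1.ge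
  refine le_antisymm ?_ hle
  intro z hz
  obtain ⟨b, hb⟩ := exists_sub_mem A B z
  have h2 : algebraMap B (B ⊗[A] Cpl A) b ∈ n' := by
    have := n'.sub_mem hz (hle hb)
    simpa using this
  have h3 : b ∈ maximalIdeal B := by rw [← h1]; exact h2
  have := Ideal.add_mem _ hb (Ideal.mem_map_of_mem (algebraMap B (B ⊗[A] Cpl A)) h3)
  simpa using this

/-- The completions of `B` and of `(B ⊗_A Â)_{n'}` agree. -/
theorem exists_equiv (n' : Ideal (B ⊗[A] Cpl A)) [n'.IsPrime]
    (h1 : n'.comap (algebraMap B (B ⊗[A] Cpl A)) = maximalIdeal B)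
    (C : Type u) [CommRing C] [IsLocalRing C] [Algebra (B ⊗[A] Cpl A) C] [Algebra B C]
    [IsScalarTower B (B ⊗[A] Cpl A) C] [IsLocalization.AtPrime C n'] :
    ∃ e : Cpl B ≃+* Cpl C,
      ∀ b, e (algebraMap B (Cpl B) b) = algebraMap C (Cpl C) (algebraMap B C b) := by
  have hn' := eq_map_maximalIdeal A B n' h1
  have hflatA : Module.Flat A (Cpl A) := Groth.Agent.Ega4A.CplQuot.flat_cpl A
  have hflat1 : Module.Flat B (B ⊗[A] Cpl A) := inferInstance
  have hflat3 : Module.Flat (B ⊗[A] Cpl A) C := IsLocalization.flat C n'.primeCompl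
  have hflat2 : Module.Flat B C := Module.Flat.trans B (B ⊗[A] Cpl A) C
  have hmC : (maximalIdeal B).map (algebraMap B C) = maximalIdeal C := by
    rw [IsScalarTower.algebraMap_eq B (B ⊗[A] Cpl A) C, ← Ideal.map_map, ← hn',
      IsLocalization.AtPrime.map_eq_maximalIdeal n' C]
  have hloc : IsLocalHom (algebraMap B C) := by
    refine ⟨fun b hb => ?_⟩
    by_contra hcon
    have hbm : b ∈ maximalIdeal B := hcon
    have h3 : algebraMap B C b ∈ maximalIdeal C := by
      rw [← hmC]; exact Ideal.mem_map_of_mem _ hbm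
    exact h3 hb
  refine Groth.Agent.CurvesB.EtaleCompl.exists_completion_ringEquiv_of_flat hmC ?_
  intro c
  obtain ⟨⟨z, s⟩, hzs⟩ := IsLocalization.surj n'.primeCompl c
  obtain ⟨bz, hbz⟩ := exists_sub_mem A B z
  obtain ⟨bs, hbs⟩ := exists_sub_mem A B (s : B ⊗[A] Cpl A)
  rw [← hn'] at hbz hbs
  have hbsu : IsUnit bs := by
    by_contra hcon
    have h3 : bs ∈ maximalIdeal B := hcon
    have h4 : algebraMap B (B ⊗[A] Cpl A) bs ∈ n' := by
      rw [hn']; exact Ideal.mem_map_of_mem _ h3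
    exact s.2 (by simpa using n'.add_mem hbs h4)
  obtain ⟨u, hu⟩ := hbsu.exists_right_inv
  refine ⟨bz * u, ?_⟩
  have hs : algebraMap (B ⊗[A] Cpl A) C s ∉ maximalIdeal C := by
    rw [IsLocalization.AtPrime.to_map_mem_maximal_iff C n']
    exact s.2
  have key : algebraMap (B ⊗[A] Cpl A) C s * (c - algebraMap B C (bz * u)) ∈ maximalIdeal C := by
    have h5 : algebraMap (B ⊗[A] Cpl A) C s * (c - algebraMap B C (bz * u)) =
        algebraMap (B ⊗[A] Cpl A) C (z - s * algebraMap B (B ⊗[A] Cpl A) (bz * u)) := by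
      rw [mul_sub, mul_comm _ c, hzs, IsScalarTower.algebraMap_apply B (B ⊗[A] Cpl A) C,
        ← map_mul, ← map_sub]
    rw [h5, IsLocalization.AtPrime.to_map_mem_maximal_iff C n']
    have h6 : z - s * algebraMap B (B ⊗[A] Cpl A) (bz * u) =
        (z - algebraMap B _ bz) - (s - algebraMap B _ bs) * algebraMap B _ (bz * u) := by
      have h7 : algebraMap B (B ⊗[A] Cpl A) bs * algebraMap B _ (bz * u) =
          algebraMap B _ bz := by
        rw [← map_mul]
        congr 1
        calc bs * (bz * u) = bz * (bs * u) := by ring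
          _ = bz := by rw [hu, mul_one]
      rw [sub_mul, h7]
      ring
    rw [h6]
    exact n'.sub_mem hbz (Ideal.mul_mem_right _ _ hbs)
  rcases (Ideal.IsPrime.mem_or_mem (maximalIdeal.isMaximal C).isPrime key) with h | h
  · exact absurd h hs
  · exact h

end K112.CplTensor
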