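import Groth.Agent.Flat2D.FlatAtPt
import Mathlib.AlgebraicGeometry.Noetherian
import Mathlib.AlgebraicGeometry.Stalk
import Mathlib.AlgebraicGeometry.Morphisms.Flat
import Mathlib.RingTheory.Ideal.KrullsHeightTheorem
import Mathlib.RingTheory.Ideal.GoingDown

/-!
# Generic points of fibres and dimensions of local rings

* `exists_generic`: every point `x₀` has a generization `x` in its fibre with
  `dim O_{X,x} ≤ dim O_{Y,f(x)}`.
* `ringKrullDim_stalk_le_of_flat`: for `f` flat, `dim O_{Y,f(x)} ≤ dim O_{X,x}`.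
-/

set_option autoImplicit false
universe u

open CategoryTheory AlgebraicGeometry IsLocalRing

namespace K112.FibreGeneric

theorem exists_prime_height_le {R S : Type u} [CommRing R] [CommRing S] [Algebra R S]
    [IsNoetherianRing R] [IsNoetherianRing S] [IsLocalRing R] [IsLocalRing S]
    [IsLocalHom (algebraMap R S)] :
    ∃ q : PrimeSpectrum S, q.asIdeal.comap (algebraMap R S) = maximalIdeal R ∧
      q.asIdeal.height ≤ (maximalIdeal R).height := by
  have hle : (maximalIdeal R).map (algebraMap R S) ≤ maximalIdeal S :=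
    IsLocalRing.map_maximalIdeal_le _
  obtain ⟨q, hq, hqm⟩ := Ideal.exists_minimalPrimes_le hle
  have hqp : q.IsPrime := hq.1.1
  have hc : q.comap (algebraMap R S) = maximalIdeal R :=
    ((maximalIdeal.isMaximal R).eq_of_le (hqp.comap _).ne_top
      (Ideal.map_le_iff_le_comap.mp hq.1.2)).symm
  have hlo : q.LiesOver (maximalIdeal R) := ⟨hc.symm⟩
  refine ⟨⟨q, hqp⟩, hc, ?_⟩
  have h1 := Ideal.height_le_height_add_of_liesOver (maximalIdeal R) q
  have hzero : (q.map (Ideal.Quotient.mk ((maximalIdeal R).map (algebraMap R S)))).height = 0 := by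
    have hpr : (q.map (Ideal.Quotient.mk ((maximalIdeal R).map (algebraMap R S)))).IsPrime :=
      Ideal.map_isPrime_of_surjective Ideal.Quotient.mk_surjective (by rw [Ideal.mk_ker]; exact hq.1.2)
    rw [Ideal.height_eq_zero_iff]
    refine ⟨⟨hpr, bot_le⟩, ?_⟩
    rintro Q ⟨hQ, -⟩ hQle
    have h1 : Q.comap (Ideal.Quotient.mk ((maximalIdeal R).map (algebraMap R S))) ≤ q := by
      refine (Ideal.comap_mono hQle).trans ?_
      rw [Ideal.comap_map_of_surjective _ Ideal.Quotient.mk_surjective,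
        ← RingHom.ker_eq_comap_bot, Ideal.mk_ker]
      exact sup_le le_rfl hq.1.2
    have h2 := hq.2 ⟨Ideal.IsPrime.comap _, by
      conv_lhs => rw [← Ideal.mk_ker (I := (maximalIdeal R).map (algebraMap R S)),
        RingHom.ker_eq_comap_bot]
      exact Ideal.comap_mono bot_le⟩ h1
    rw [Ideal.map_le_iff_le_comap]
    exact h2
  rw [hzero, add_zero] at h1
  exact h1

theorem ringKrullDim_stalk_fromSpecStalk (X : Scheme.{u}) (x₀ : X) (q : Spec (X.presheaf.stalk x₀)) :
    ringKrullDim (X.presheaf.stalk (X.fromSpecStalk x₀ q)) =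
      ((PrimeSpectrum.asIdeal q).height : ℕ∞) := by
  have : IsIso ((X.fromSpecStalk x₀).stalkMap q) :=
    Groth.Agent.Flat2D.FlatAtPt.isIso_stalkMap_fromSpecStalk X x₀ q
  have e1 : X.presheaf.stalk (X.fromSpecStalk x₀ q) ≃+*
      (Spec (X.presheaf.stalk x₀)).presheaf.stalk q :=
    (asIso ((X.fromSpecStalk x₀).stalkMap q)).commRingCatIsoToRingEquiv
  rw [ringKrullDim_eq_of_ringEquiv (e1.trans
    (Spec.stalkIso (X.presheaf.stalk x₀) q).commRingCatIsoToRingEquiv)]
  exact IsLocalization.AtPrime.ringKrullDim_eq_height q.asIdeal (Localization.AtPrime q.asIdeal)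

theorem exists_generic {X Y : Scheme.{u}} (f : X ⟶ Y) [IsLocallyNoetherian X]
    [IsLocallyNoetherian Y] (x₀ : X) :
    ∃ x : X, x ⤳ x₀ ∧ f x = f x₀ ∧
      ringKrullDim (X.presheaf.stalk x) ≤ ringKrullDim (Y.presheaf.stalk (f x₀)) := by
  let _ : Algebra (Y.presheaf.stalk (f x₀)) (X.presheaf.stalk x₀) := (f.stalkMap x₀).hom.toAlgebra
  have hloc : IsLocalHom (algebraMap (Y.presheaf.stalk (f x₀)) (X.presheaf.stalk x₀)) :=
    inferInstanceAs (IsLocalHom (f.stalkMap x₀).hom)
  obtain ⟨q, hq, hq'⟩ := exists_prime_height_le (R := Y.presheaf.stalk (f x₀))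
    (S := X.presheaf.stalk x₀)
  refine ⟨X.fromSpecStalk x₀ q, ?_, ?_, ?_⟩
  · have : X.fromSpecStalk x₀ q ∈ Set.range (X.fromSpecStalk x₀) := ⟨q, rfl⟩
    rw [Scheme.range_fromSpecStalk] at this
    exact this
  · rw [← Scheme.Hom.comp_apply, ← Scheme.SpecMap_stalkMap_fromSpecStalk, Scheme.Hom.comp_apply]
    have h1 : Spec.map (f.stalkMap x₀) q = closedPoint (Y.presheaf.stalk (f x₀)) :=
      PrimeSpectrum.ext hq
    rw [h1, Scheme.fromSpecStalk_closedPoint]
  · rw [ringKrullDim_stalk_fromSpecStalk, ← IsLocalRing.maximalIdeal_height_eq_ringKrullDim]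
    exact_mod_cast hq'

theorem ringKrullDim_stalk_le_of_flat {X Y : Scheme.{u}} (f : X ⟶ Y) [Flat f]
    [IsLocallyNoetherian X] [IsLocallyNoetherian Y] (x : X) :
    ringKrullDim (Y.presheaf.stalk (f x)) ≤ ringKrullDim (X.presheaf.stalk x) := by
  let _ : Algebra (Y.presheaf.stalk (f x)) (X.presheaf.stalk x) := (f.stalkMap x).hom.toAlgebra
  have hloc : IsLocalHom (algebraMap (Y.presheaf.stalk (f x)) (X.presheaf.stalk x)) :=
    inferInstanceAs (IsLocalHom (f.stalkMap x).hom)
  have hflat : Module.Flat (Y.presheaf.stalk (f x)) (X.presheaf.stalk x) :=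
    Flat.stalkMap f x
  have hlo : (maximalIdeal (X.presheaf.stalk x)).LiesOver
      (maximalIdeal (Y.presheaf.stalk (f x))) :=
    ⟨(IsLocalRing.maximalIdeal_comap (algebraMap _ _)).symm⟩
  have h := Ideal.height_eq_height_add_of_liesOver_of_hasGoingDown
    (maximalIdeal (Y.presheaf.stalk (f x))) (maximalIdeal (X.presheaf.stalk x))
  rw [← IsLocalRing.maximalIdeal_height_eq_ringKrullDim,
    ← IsLocalRing.maximalIdeal_height_eq_ringKrullDim, h]
  exact_mod_cast le_self_add

end K112.FibreGeneric
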