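import Groth.Agent.Ega4B.CMGlobal

/-!
# Cohen-Macaulay fibres in the `FibP` formalism
-/

set_option autoImplicit false

universe u

open TensorProduct IsLocalRing

namespace K112.GoodCM

open LocCoh Groth.Agent Groth.Agent.Ega4B.CMGlobal Groth.Agent.Ega4A.PFibre

theorem fibP_of_CM_fibers (A A' : Type u) [CommRing A] [CommRing A'] [Algebra A A']
    (hA : ∀ (p : Ideal A) [p.IsPrime], IsCohenMacaulayRing (p.Fiber A')) :
    FibP.{u} (fun R _ => IsCohenMacaulayRing R) A A' := by
  intro K _ _ hK
  let p : Ideal A := RingHom.ker (algebraMap A K)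
  have hp : p.IsPrime := RingHom.ker_isPrime _
  let f : p.ResidueField →ₐ[A] K := Ideal.ResidueField.liftₐ p (Algebra.ofId A K) le_rfl (by
    intro x hx
    have hx' : algebraMap A K x ≠ 0 := fun h0 ↦ hx h0
    exact (isUnit_iff_ne_zero.mpr hx'))
  let _ : Algebra p.ResidueField K := f.toRingHom.toAlgebra
  have : IsScalarTower A p.ResidueField K := .of_algebraMap_eq fun x => (f.commutes x).symm
  have hK' : Algebra.EssFiniteType p.ResidueField K := Algebra.EssFiniteType.of_comp A p.ResidueField K
  have h1 : IsCohenMacaulayRing (K ⊗[p.ResidueField] (p.Fiber A')) :=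
    isCohenMacaulayRing_tensor p.ResidueField K _ (hA p)
  exact CalgB.CMPoly.isCohenMacaulayRing_of_ringEquiv
    (Algebra.TensorProduct.cancelBaseChange A p.ResidueField K K A').toRingEquiv

end K112.GoodCM
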