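import Groth.Agent.S2683
import Groth.Agent.S2612
import Groth.Agent.Ega4B.SkOpen

/-!
# Normal flatness localizes

* `isNormallyFlat_localized`: normal flatness of `M` along `I` passes to a localization.
* `supportDim_eq_and_depth_eq`: for `M` with full support, normally flat along a nilpotent ideal `I`,
  the dimension and the depth of `M_q` are those of `(A/I)_q`.
-/

set_option autoImplicit false
universe u

namespace K112.NormFlatLoc

open Groth.Agent.S2683

variable {A : Type u} [CommRing A] {I : Ideal A} {M : Type u} [AddCommGroup M] [Module A M]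

theorem isNormallyFlat_localized (A' : Type u) [CommRing A'] [Algebra A A'] (S : Submonoid A)
    [IsLocalization S A'] (M' : Type u) [AddCommGroup M'] [Module A M'] [Module A' M']
    [IsScalarTower A A' M'] (f : M →ₗ[A] M') [IsLocalizedModule S f]
    (hM : EGA4.IsNormallyFlat I M) :
    EGA4.IsNormallyFlat (I.map (algebraMap A A')) M' := by
  intro n
  obtain ⟨g, hg⟩ := exists_grMap (I := I) (M := M) A' S M' f n
  have hfl := hM n
  let J := I.map (algebraMap A A')
  let _ : Module (A ⧸ I) (gr J M' n) := Module.compHom _ (algebraMap (A ⧸ I) (A' ⧸ J))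
  have : IsScalarTower (A ⧸ I) (A' ⧸ J) (gr J M' n) :=
    IsScalarTower.of_algebraMap_smul fun _ _ => rfl
  have : IsScalarTower A (A ⧸ I) (gr J M' n) :=
    IsScalarTower.of_algebraMap_smul fun a x => by
      change (algebraMap (A ⧸ I) (A' ⧸ J) (algebraMap A (A ⧸ I) a)) • x = a • x
      rw [← IsScalarTower.algebraMap_apply A (A ⧸ I) (A' ⧸ J),
        IsScalarTower.algebraMap_apply A A' (A' ⧸ J)]
      rw [algebraMap_smul, algebraMap_smul]
  let g' : gr I M n →ₗ[A ⧸ I] gr J M' n :=
    LinearMap.extendScalarsOfSurjective Ideal.Quotient.mk_surjective g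
  have : IsLocalizedModule S (g'.restrictScalars A) := hg
  have h1 : IsLocalizedModule (Algebra.algebraMapSubmonoid (A ⧸ I) S) g' :=
    IsLocalizedModule.of_restrictScalars _ _
  exact Module.Flat.of_isLocalizedModule (A' ⧸ J) (Algebra.algebraMapSubmonoid (A ⧸ I) S) g'

/-- for a prime `q`: `(A/I)_q ≃ A_q / I A_q` as `A_q`-modules. -/
theorem nonempty_equiv_quotient (I : Ideal A) (q : Ideal A) [q.IsPrime] :
    Nonempty (LocalizedModule q.primeCompl (A ⧸ I) ≃ₗ[Localization.AtPrime q]
      (Localization.AtPrime q ⧸ I.map (algebraMap A (Localization.AtPrime q)))) := by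
  let S := q.primeCompl
  let A' := Localization.AtPrime q
  have h2 : (I : Submodule A A).localized' A' S (Algebra.linearMap A A') =
      (I.map (algebraMap A A')) := by
    rw [Ideal.localized'_eq_map]
  let g := Submodule.toLocalizedQuotient' A' S (Algebra.linearMap A A') (I : Submodule A A)
  have hg : IsLocalizedModule S g := inferInstance
  have e1 : LocalizedModule S (A ⧸ I) ≃ₗ[A] (A' ⧸ (I : Submodule A A).localized' A' S (Algebra.linearMap A A')) :=
    IsLocalizedModule.linearEquiv S (LocalizedModule.mkLinearMap S (A ⧸ I)) g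
  have e2 : LocalizedModule S (A ⧸ I) ≃ₗ[A'] (A' ⧸ (I : Submodule A A).localized' A' S (Algebra.linearMap A A')) :=
    LinearEquiv.extendScalarsOfIsLocalization S A' e1
  rw [h2] at e2
  exact ⟨e2⟩

variable [IsNoetherianRing A] [Module.Finite A M]

theorem supportDim_eq_and_depth_eq (hI : IsNilpotent I) (hsupp : Module.support A M = Set.univ)
    (hM : EGA4.IsNormallyFlat I M) (q : Ideal A) [hq : q.IsPrime] :
    Module.supportDim (Localization.AtPrime q) (LocalizedModule q.primeCompl M) =
      Module.supportDim (Localization.AtPrime q) (LocalizedModule q.primeCompl (A ⧸ I)) ∧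
    LocCoh.depth (Localization.AtPrime q) (LocalizedModule q.primeCompl M) =
      LocCoh.depth (Localization.AtPrime q) (LocalizedModule q.primeCompl (A ⧸ I)) := by
  have hnt : Nontrivial (LocalizedModule q.primeCompl M) := by
    have : (⟨q, hq⟩ : PrimeSpectrum A) ∈ Module.support A M := hsupp ▸ Set.mem_univ _
    exact this
  have hnil : IsNilpotent (I.map (algebraMap A (Localization.AtPrime q))) := by
    obtain ⟨n, hn⟩ := hI
    refine ⟨n, ?_⟩
    rw [← Ideal.map_pow, hn]
    exact Ideal.map_bot
  have hnf := isNormallyFlat_localized (Localization.AtPrime q) q.primeCompl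
    (LocalizedModule q.primeCompl M) (LocalizedModule.mkLinearMap q.primeCompl M) hM
  obtain ⟨h1, h2⟩ := Groth.Agent.S2612.result (Localization.AtPrime q) _ hnil
    (LocalizedModule q.primeCompl M) hnf
  obtain ⟨e⟩ := nonempty_equiv_quotient I q
  refine ⟨?_, ?_⟩
  · rw [h1, Module.supportDim_eq_of_equiv e, Module.supportDim_quotient_eq_ringKrullDim]
  · rw [h2]
    exact Groth.Agent.Localalg.Depth.idealDepth_congr_equiv _ e.symm

end K112.NormFlatLoc
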