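import Groth.Agent.Ega4B.GFTCrit
import Groth.Agent.Ega4C.GeomRedFib

/-!
# Geometrically reduced fibres through finite domains

Let `D → D'` be flat with `D` Noetherian.  All fibres `κ(p) ⊗ D'` are geometrically reduced iff for every
finite `D`-algebra `C` which is a domain and every prime `P` of `C ⊗ D'` over `(0) ⊂ C`, the
local ring of `C ⊗ D'` at `P` is reduced.
-/

set_option autoImplicit false

open TensorProduct

universe u

namespace K112.RedCrit

open Groth.Agent.Ega4B.GFTCrit

section Loc

variable (D D' C L : Type*) [CommRing D] [CommRing D'] [CommRing C] [CommRing L] [Algebra D D']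
  [Algebra D C] [Algebra D L] [Algebra C L] [IsScalarTower D C L] (M : Submonoid C)
  [IsLocalization M L]

include M in
/-- The local ring of `L ⊗ D'` at `Q` is the local ring of `C ⊗ D'` at the contraction. -/
theorem nonempty_localization_equiv (Q : Ideal (L ⊗[D] D')) [Q.IsPrime] :
    Nonempty (Localization.AtPrime (Q.comap (φ D D' C L).toRingHom) ≃+* Localization.AtPrime Q) := by
  let _ : Algebra (C ⊗[D] D') (L ⊗[D] D') := (φ D D' C L).toAlgebra
  have : IsScalarTower C (C ⊗[D] D') (L ⊗[D] D') := by
    refine IsScalarTower.of_algebraMap_eq (R := C) (S := C ⊗[D] D') (A := L ⊗[D] D') fun x => ?_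
    change algebraMap C L x ⊗ₜ[D] (1 : D') = φ D D' C L (x ⊗ₜ[D] (1 : D'))
    simp [φ]
  have hloc' : IsLocalization (Algebra.algebraMapSubmonoid (C ⊗[D] D') M) (L ⊗[D] D') :=
    IsLocalization.tensorProduct_tensorProduct D D' M L (by
      ext x
      change φ D D' C L ((1 : C) ⊗ₜ[D] x) = (1 : L) ⊗ₜ[D] x
      simp [φ])
  have h1 : IsLocalization.AtPrime (Localization.AtPrime Q)
      (Q.comap (algebraMap (C ⊗[D] D') (L ⊗[D] D'))) :=
    IsLocalization.isLocalization_isLocalization_atPrime_isLocalization
      (Algebra.algebraMapSubmonoid (C ⊗[D] D') M) (Localization.AtPrime Q) Q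
  exact ⟨(IsLocalization.algEquiv (Q.comap (algebraMap (C ⊗[D] D') (L ⊗[D] D'))).primeCompl
    (Localization.AtPrime (Q.comap (algebraMap (C ⊗[D] D') (L ⊗[D] D'))))
    (Localization.AtPrime Q)).toRingEquiv⟩

end Loc

/-- Criterion for geometrically reduced fibres. -/
theorem isGeometricallyReduced_fibres_of_forall_finite_domain (D D' : Type u) [CommRing D]
    [CommRing D'] [Algebra D D']
    (H : ∀ (C : Type u) [CommRing C] [IsDomain C] [Algebra D C] [Module.Finite D C]
      (P : Ideal (C ⊗[D] D')) [P.IsPrime], P.comap (algebraMap C (C ⊗[D] D')) = ⊥ →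
        IsReduced (Localization.AtPrime P)) (p : Ideal D) [p.IsPrime] :
    Algebra.IsGeometricallyReduced p.ResidueField (p.Fiber D') := by
  refine Groth.Agent.Ega4C.GeomRedFib.isGeometricallyReduced_of_forall_finite _ ?_
  intro L _ _ _
  let _ : Algebra D L := Algebra.compHom L (algebraMap D p.ResidueField)
  have : IsScalarTower D p.ResidueField L := .of_algebraMap_eq' rfl
  have key : IsReduced (L ⊗[D] D') := by
    obtain ⟨C, hC, hloc⟩ := exists_finite_subalgebra D p L
    refine isReduced_ofLocalizationMaximal _ fun Q hQ => ?_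
    obtain ⟨e⟩ := nonempty_localization_equiv D D' C L
      (Algebra.algebraMapSubmonoid C p.primeCompl) Q
    have h1 : IsReduced (Localization.AtPrime (Q.comap (φ D D' C L).toRingHom)) := by
      refine H C _ ?_
      rw [comap_φ_comap]
      have h0 : Q.comap (algebraMap L (L ⊗[D] D')) = ⊥ := by
        have := (Ideal.comap_isPrime (algebraMap L (L ⊗[D] D')) Q)
        exact (Ideal.eq_bot_or_top _).resolve_right this.ne_top
      rw [h0, eq_bot_iff]
      intro x hx
      exact Subtype.ext hx
    exact isReduced_of_injective e.symm e.symm.injective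
  exact isReduced_of_injective (Algebra.TensorProduct.cancelBaseChange D p.ResidueField L L D')
    (Algebra.TensorProduct.cancelBaseChange D p.ResidueField L L D').injective

end K112.RedCrit
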