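import Groth.Agent.EGA4.K112.GoodSk
import Groth.Agent.LoccohA.FibAss
import Groth.Agent.Ega4C.DepthBasics
import Groth.Agent.Ega4C.DepthExt
import Groth.Agent.Ega4A.FormEquidimCore
import Groth.Agent.EGA4.K112.NormFlatLoc

/-!
# Strictly formally catenary local rings

* `hasSk_one_fiber_iff`: a fibre of a flat map is `(S_1)` iff associated primes of `B'/pB'` are minimal.
* `isFormallyStrictlyCatenary_iff`: `A` is strictly formally catenary iff it is universally catenary
  and its formal fibres are `(S_1)`.
-/

set_option autoImplicit false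

universe u

open TensorProduct IsLocalRing

namespace K112.StrictCat

open LocCoh Groth.Agent Groth.Agent.Ega4C Groth.Agent.Ega4A

theorem mem_minimalPrimes_of_dim {R : Type u} [CommRing R] [IsNoetherianRing R] [IsLocalRing R]
    (I P : Ideal R) (hIP : I ≤ P) [hP : P.IsPrime] (h : ringKrullDim (R ⧸ I) ≤ ringKrullDim (R ⧸ P)) :
    P ∈ I.minimalPrimes := by
  obtain ⟨P₀, hP₀, hP₀P⟩ := Ideal.exists_minimalPrimes_le hIP
  have hp₀ : P₀.IsPrime := hP₀.1.1
  by_cases hne : P ≤ P₀
  · rwa [le_antisymm hne hP₀P]
  · exfalso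
    obtain ⟨x, hx, hx0⟩ := Set.not_subset.mp hne
    have hnz : Ideal.Quotient.mk P₀ x ∈ nonZeroDivisors (R ⧸ P₀) :=
      mem_nonZeroDivisors_of_ne_zero fun h0 => hx0 (Ideal.Quotient.eq_zero_iff_mem.mp h0)
    have h1 := ringKrullDim_quotient_succ_le_of_nonZeroDivisor hnz
    have h2 : ringKrullDim (R ⧸ P) ≤
        ringKrullDim ((R ⧸ P₀) ⧸ Ideal.span {Ideal.Quotient.mk P₀ x}) := by
      refine ringKrullDim_le_of_surjective (Ideal.Quotient.lift (Ideal.span {Ideal.Quotient.mk P₀ x})
        (Ideal.Quotient.factor hP₀P) ?_) ?_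
      · intro a ha
        obtain ⟨b, rfl⟩ := Ideal.mem_span_singleton'.mp ha
        rw [map_mul, Ideal.Quotient.factor_mk, Ideal.Quotient.eq_zero_iff_mem.mpr hx, mul_zero]
      · exact Ideal.Quotient.lift_surjective_of_surjective _ _ (Ideal.Quotient.factor_surjective hP₀P)
    have h3 : ringKrullDim (R ⧸ P₀) ≤ ringKrullDim (R ⧸ I) :=
      ringKrullDim_le_of_surjective _ (Ideal.Quotient.factor_surjective hP₀.1.2)
    have h4 : ringKrullDim (R ⧸ P) + 1 ≤ ringKrullDim (R ⧸ P) :=
      le_trans (add_le_add_left h2 1) (h1.trans (h3.trans h))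
    have hnt : Nontrivial (R ⧸ P) := Ideal.Quotient.nontrivial_iff.mpr hP.ne_top
    have hloc : IsLocalRing (R ⧸ P) := IsLocalRing.of_surjective' (Ideal.Quotient.mk P)
      Ideal.Quotient.mk_surjective
    obtain ⟨n, hn⟩ : ∃ n : ℕ, ringKrullDim (R ⧸ P) = n := by
      have hfin : FiniteRingKrullDim (R ⧸ P) := inferInstance
      exact finiteRingKrullDim_iff_ne_bot_and_top.mp hfin |> fun ⟨h1, h2⟩ => by
        revert h1 h2
        generalize ringKrullDim (R ⧸ P) = d
        intro h1 h2
        induction d using WithBot.recBotCoe with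
        | bot => exact absurd rfl h1
        | coe d =>
          induction d using ENat.recTopCoe with
          | top => exact absurd rfl h2
          | coe d => exact ⟨d, rfl⟩
    rw [hn] at h4
    have h5 : ((n + 1 : ℕ) : WithBot ℕ∞) ≤ (n : ℕ) := by exact_mod_cast h4
    have h6 : n + 1 ≤ n := by exact_mod_cast h5
    omega

theorem hasSk_one_fiber_iff (B B' : Type u) [CommRing B] [CommRing B'] [Algebra B B']
    [IsNoetherianRing B] [IsNoetherianRing B'] [Module.Flat B B'] (p : Ideal B) [p.IsPrime] :
    HasSk 1 (p.Fiber B') (p.Fiber B') ↔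
      ∀ r ∈ associatedPrimes B' (B' ⧸ p.map (algebraMap B B')),
        r ∈ (p.map (algebraMap B B')).minimalPrimes := by
  refine ⟨fun h r hr => LoccohA.FibAss.mem_minimalPrimes_of_ass B B' p h r hr, fun h => ?_⟩
  rw [SkFlat.fiber_hasSk_iff]
  intro r hr hloc hrp
  by_cases hass : r ∈ associatedPrimes B' (B' ⧸ p.map (algebraMap B B'))
  · have hmin := h r hass
    have h0 : ringKrullDim (EGA4.FibLocRing B B' r) = 0 :=
      SkField.ringKrullDim_fibLocRing_of_minimal (B := B) (C := B') p r hrp hmin
    unfold SkFlat.MinLe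
    rw [h0]
    simp
  · have h1 := (DepthBasics.one_le_depth_localizedModule_iff (A := B')
      (M := B' ⧸ p.map (algebraMap B B')) r).mpr hass
    obtain ⟨e⟩ := K112.NormFlatLoc.nonempty_equiv_quotient (p.map (algebraMap B B')) r
    have h2 : depth (Localization.AtPrime r)
        (LocalizedModule r.primeCompl (B' ⧸ p.map (algebraMap B B'))) =
        depth (EGA4.FibLocRing B B' r) (EGA4.FibLocRing B B' r) := by
      have hI : (p.map (algebraMap B B')).map (algebraMap B' (Localization.AtPrime r)) =
          (r.comap (algebraMap B B')).map (algebraMap B (Localization.AtPrime r)) := by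
        rw [Ideal.map_map, ← IsScalarTower.algebraMap_eq, hrp]
      let e2 : (Localization.AtPrime r ⧸
          (p.map (algebraMap B B')).map (algebraMap B' (Localization.AtPrime r))) ≃+*
          EGA4.FibLocRing B B' r := Ideal.quotEquivOfEq hI
      refine DepthExt.depth_congr_of_surjective
        (Ideal.Quotient.mk ((r.comap (algebraMap B B')).map (algebraMap B (Localization.AtPrime r))))
        Ideal.Quotient.mk_surjective (e.toAddEquiv.trans e2.toAddEquiv) ?_
      intro x m
      change e2 (e (x • m)) = _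
      rw [map_smul]
      have h3 : ∀ y, e2 (x • y) = (Ideal.Quotient.mk _ x) * e2 y := by
        intro y
        have : x • y = Ideal.Quotient.mk _ x * y := Algebra.smul_def x y
        rw [this, map_mul]
        rfl
      exact h3 _
    rw [h2] at h1
    unfold SkFlat.MinLe
    refine le_trans (min_le_left _ _) ?_
    exact_mod_cast h1

/-- Strictly formally catenary in terms of formal fibres. -/
theorem isFormallyStrictlyCatenary_iff (A : Type u) [CommRing A] [IsNoetherianRing A]
    [IsLocalRing A] : EGA4.IsFormallyStrictlyCatenary A ↔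
      (CAlg.IsUniversallyCatenary A ∧ EGA4.HasSnFormalFibres 1 A) := by
  have hN := CplQuot.isNoetherianRing_cpl A
  have hflat : Module.Flat A (EGA4.Cpl A) := CplQuot.flat_cpl A
  constructor
  · intro h
    refine ⟨?_, fun p _ => ?_⟩
    · refine FormEquidimCore.isUniversallyCatenary A fun p _ => ?_
      have := CplQuot.isNoetherianRing_cpl (A ⧸ p)
      exact StrictlyEquidim.isEquidim_of_isStrictlyEquidim (h p)
    · change HasSk 1 (p.Fiber (EGA4.Cpl A)) (p.Fiber (EGA4.Cpl A))
      rw [hasSk_one_fiber_iff]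
      have hp := h p
      have h2 := (StrictlyEquidim.isStrictlyEquidim_cpl_quotient_iff (A := A) p).mp hp
      have hdim := CplQuot.ringKrullDim_cpl_quotient_map A p
      intro r hr
      have hrp : r.IsPrime := hr.isPrime
      have hle := (StrictlyEquidim.exists_comap_of_mem_associatedPrimes hr).1
      exact mem_minimalPrimes_of_dim _ r hle (by rw [h2 r hr, hdim])
  · rintro ⟨h1, h2⟩ p hp P hP
    have h3 := LoccohA.FibAss.ringKrullDim_cpl_quotient A h1 p (h2 p) (maximalIdeal (A ⧸ p)) ?_ P hP
    · rw [h3]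
      exact (CplQuot.ringKrullDim_cpl (A ⧸ p)).symm
    · have hc : (maximalIdeal (A ⧸ p)).comap (Ideal.Quotient.mk p) = maximalIdeal A :=
        ((IsLocalRing.local_hom_TFAE (Ideal.Quotient.mk p)).out 0 4 rfl rfl).mp
          (IsLocalHom.of_surjective _ Ideal.Quotient.mk_surjective)
      rw [← hc, Ideal.map_comap_of_surjective _ Ideal.Quotient.mk_surjective]

end K112.StrictCat
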